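import Groth.Agent.SubQuot25.Basic
import Groth.Agent.SpSeqFin25.Basic
import Mathlib.Algebra.Homology.Refinements
import Mathlib.Algebra.Homology.ExactSequence

/-! # Passing from one page to the next -/

set_option autoImplicit false

universe v u

open CategoryTheory CategoryTheory.Limits

namespace GrothLib.SpSeqPage25

open SubQuot25

variable {A : Type u} [Category.{v} A] [Abelian A]

/-- Closure under five-term exact sequences. -/
def FiveClosed (P : ObjectProperty A) : Prop :=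
  ∀ S : ComposableArrows A 4, S.Exact → P (S.obj 0) → P (S.obj 1) → P (S.obj 3) → P (S.obj 4) → P (S.obj 2)

theorem exact_mk₄ {X₀ X₁ X₂ X₃ X₄ : A} (f : X₀ ⟶ X₁) (g : X₁ ⟶ X₂) (h : X₂ ⟶ X₃) (k : X₃ ⟶ X₄)
    (w₁ : f ≫ g = 0) (w₂ : g ≫ h = 0) (w₃ : h ≫ k = 0)
    (e₁ : (ShortComplex.mk f g w₁).Exact) (e₂ : (ShortComplex.mk g h w₂).Exact)
    (e₃ : (ShortComplex.mk h k w₃).Exact) : (ComposableArrows.mk₄ f g h k).Exact :=
  ComposableArrows.exact_of_δ₀ (ComposableArrows.exact₂_mk _ w₁ e₁)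
    (ComposableArrows.exact_of_δ₀ (ComposableArrows.exact₂_mk _ w₂ e₂) (ComposableArrows.exact₂_mk _ w₃ e₃))

variable {P : ObjectProperty A} (hP : FiveClosed P) (Z : A) (hZ : IsZero Z) (hPZ : P Z)

include hP hZ hPZ in
theorem of_kernel {K X Y : A} (i : K ⟶ X) (f : X ⟶ Y) (w : i ≫ f = 0) [Mono i]
    (e : (ShortComplex.mk i f w).Exact) (hX : P X) (hY : P Y) : P K :=
  hP (ComposableArrows.mk₄ (0 : Z ⟶ Z) (0 : Z ⟶ K) i f)
    (exact_mk₄ _ _ _ _ (hZ.eq_of_src _ _) (by simp) w (ShortComplex.exact_of_isZero_X₂ _ hZ)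
      ((ShortComplex.exact_iff_mono _ rfl).2 ‹_›) e) hPZ hPZ hX hY

include hP hZ hPZ in
theorem of_cokernel {X Y C : A} (f : X ⟶ Y) (q : Y ⟶ C) (w : f ≫ q = 0) [Epi q]
    (e : (ShortComplex.mk f q w).Exact) (hX : P X) (hY : P Y) : P C :=
  hP (ComposableArrows.mk₄ f q (0 : C ⟶ Z) (0 : Z ⟶ Z))
    (exact_mk₄ _ _ _ _ w (by simp) (by simp) e ((ShortComplex.exact_iff_epi _ rfl).2 ‹_›)
      (ShortComplex.exact_of_isZero_X₂ _ hZ)) hX hY hPZ hPZ

include hP hZ hPZ in
theorem of_extension {X E Y : A} (i : X ⟶ E) (q : E ⟶ Y) (w : i ≫ q = 0) [Mono i] [Epi q]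
    (e : (ShortComplex.mk i q w).Exact) (hX : P X) (hY : P Y) : P E :=
  hP (ComposableArrows.mk₄ (0 : Z ⟶ X) i q (0 : Y ⟶ Z))
    (exact_mk₄ _ _ _ _ (by simp) w (by simp) ((ShortComplex.exact_iff_mono _ rfl).2 ‹_›) e
      ((ShortComplex.exact_iff_epi _ rfl).2 ‹_›)) hPZ hX hY hPZ

variable (K : SpSeq.FilCx A)

/-- `F^p ⊓ d⁻¹ F^{p+r}`. -/
noncomputable def Z0 (r : ℕ) (p n : ℤ) : Subobject (K.obj.X n) :=
  K.filX p n ⊓ (Subobject.pullback (K.obj.d n (n + 1))).obj (K.filX (p + r) (n + 1))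

theorem ZSub_succ_le (r : ℕ) (p n : ℤ) : K.ZSub (r + 1) p n ≤ K.ZSub r p n :=
  sup_le_sup_right (inf_le_inf_left _
    ((Subobject.pullback _).map (homOfLE (K.filX_anti (n + 1) (by omega : p + r ≤ p + (r + 1 : ℕ))))).le) _

theorem BSub_le_succ (r : ℕ) (p n : ℤ) : K.BSub r p n ≤ K.BSub (r + 1) p n := by
  refine sup_le_sup_right (inf_le_inf_left _ ?_) _
  refine imageSubobject_le _ ((K.filX _ (n - 1)).ofLE (K.filX _ (n - 1))
    (K.filX_anti (n - 1) (by omega : p - ((r + 1 : ℕ) : ℤ) + 1 ≤ p - r + 1)) ≫ factorThruImageSubobject _) ?_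
  rw [Category.assoc, imageSubobject_arrow_comp, ← Category.assoc, Subobject.ofLE_arrow]

theorem BSub_le_ZSub' (r s : ℕ) (p n : ℤ) : K.BSub r p n ≤ K.ZSub s p n :=
  sup_le_sup_right (inf_le_inf_left _ (K.image_d_le_pullback n _ _)) _

theorem BSub_factors_iff (r : ℕ) (p m n' q : ℤ) (hm : m + 1 = n') (hq : q = p - r + 1) {T : A}
    (x : T ⟶ K.obj.X n') :
    (K.BSub r p n').Factors x ↔ ∃ (T' : A) (π : T' ⟶ T) (_ : Epi π) (w : T' ⟶ K.obj.X m) (c : T' ⟶ K.obj.X n'),
      (K.filX q m).Factors w ∧ (K.filX p n').Factors (w ≫ K.obj.d m n') ∧ (K.filX (p + 1) n').Factors c ∧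
      π ≫ x = w ≫ K.obj.d m n' + c := by
  obtain rfl : m = n' - 1 := by omega
  subst hq
  rw [SpSeq.FilCx.BSub, sup_factors_iff]
  constructor
  · rintro ⟨T', π, hπ, a, b, ha, hb, he⟩
    rw [Subobject.inf_factors, image_factors_iff] at ha
    obtain ⟨ha1, T'', π', hπ', y, hy⟩ := ha
    refine ⟨T'', π' ≫ π, epi_comp _ _, y ≫ (K.filX _ _).arrow, π' ≫ b, Subobject.factors_comp_arrow _, ?_,
      factors_comp_left _ hb, ?_⟩
    · rw [Category.assoc, ← hy]
      exact factors_comp_left _ ha1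
    · rw [Category.assoc, he, Preadditive.comp_add, hy, Category.assoc]
  · rintro ⟨T', π, hπ, w, c, hw, hwd, hc, he⟩
    refine ⟨T', π, hπ, _, c, ?_, hc, he⟩
    rw [Subobject.inf_factors]
    refine ⟨hwd, ?_⟩
    rw [← (K.filX _ _).factorThru_arrow w hw, Category.assoc]
    exact imageSubobject_factors_comp_self _ _

theorem ZSub_factors_iff (r : ℕ) (p n : ℤ) {T : A} (x : T ⟶ K.obj.X n) :
    (K.ZSub r p n).Factors x ↔ ∃ (T' : A) (π : T' ⟶ T) (_ : Epi π) (a b : T' ⟶ K.obj.X n),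
      (Z0 K r p n).Factors a ∧ (K.filX (p + 1) n).Factors b ∧ π ≫ x = a + b :=
  sup_factors_iff _ _ x

theorem Z0_factors_iff (r : ℕ) (p n : ℤ) {T : A} (x : T ⟶ K.obj.X n) :
    (Z0 K r p n).Factors x ↔
      (K.filX p n).Factors x ∧ (K.filX (p + r) (n + 1)).Factors (x ≫ K.obj.d n (n + 1)) := by
  rw [Z0, Subobject.inf_factors, pullback_factors_iff]

theorem nonempty_iso_image (r : ℕ) (p n : ℤ) :
    Nonempty (SpSeq.subquot (K.ZSub r p n) (K.ZSub (r + 1) p n) (ZSub_succ_le K r p n) ≅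
      SpSeq.subquot (K.BSub (r + 1) (p + r) (n + 1)) (K.BSub r (p + r) (n + 1))
        (BSub_le_succ K r (p + r) (n + 1))) := by
  let z := (Z0 K r p n).arrow
  have hz := (Z0_factors_iff K r p n z).1 (Subobject.factors_self _)
  have h1 : (K.ZSub r p n).Factors z := factors_mono le_sup_left (Subobject.factors_self _)
  have h2 : (K.BSub (r + 1) (p + r) (n + 1)).Factors (z ≫ K.obj.d n (n + 1)) :=
    (BSub_factors_iff K (r + 1) (p + r) n (n + 1) p rfl (by omega) _).2
      ⟨_, 𝟙 _, inferInstance, z, 0, hz.1, hz.2, Subobject.factors_zero, by simp⟩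
  have e1 : Epi (cls (ZSub_succ_le K r p n) z h1) := by
    refine epi_cls _ _ _ fun T' w hw => ?_
    obtain ⟨T'', π, hπ, a, b, ha, hb, he⟩ := (ZSub_factors_iff K r p n w).1 hw
    refine ⟨T'', π, hπ, (Z0 K r p n).factorThru a ha, ?_⟩
    rw [Subobject.factorThru_arrow, he, add_sub_cancel_left]
    exact factors_mono le_sup_right hb
  have e2 : Epi (cls (BSub_le_succ K r (p + r) (n + 1)) (z ≫ K.obj.d n (n + 1)) h2) := by
    refine epi_cls _ _ _ fun T' w hw => ?_
    obtain ⟨T'', π, hπ, v, c, hv, hvd, hc, he⟩ :=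
      (BSub_factors_iff K (r + 1) (p + r) n (n + 1) p rfl (by omega) w).1 hw
    refine ⟨T'', π, hπ, (Z0 K r p n).factorThru v ((Z0_factors_iff K r p n v).2 ⟨hv, hvd⟩), ?_⟩
    rw [← Category.assoc, Subobject.factorThru_arrow, he, add_sub_cancel_left]
    exact factors_mono le_sup_right hc
  refine nonempty_iso_of_epi (cls (ZSub_succ_le K r p n) z h1)
    (cls (BSub_le_succ K r (p + r) (n + 1)) (z ≫ K.obj.d n (n + 1)) h2) fun T g => ?_
  rw [comp_cls, comp_cls, cls_eq_zero_iff, cls_eq_zero_iff]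
  have hgz := (Z0_factors_iff K r p n (g ≫ z)).1 (Subobject.factors_comp_arrow _)
  rw [Category.assoc] at hgz
  constructor
  · intro h
    obtain ⟨T', π, hπ, a, b, ha, hb, he⟩ := (ZSub_factors_iff K (r + 1) p n _).1 h
    have ha' := (Z0_factors_iff K (r + 1) p n a).1 ha
    refine (BSub_factors_iff K r (p + r) n (n + 1) (p + 1) rfl (by omega) _).2
      ⟨T', π, hπ, b, a ≫ K.obj.d n (n + 1), hb, ?_, ?_, ?_⟩
    · have hb' : b = π ≫ g ≫ z - a := by rw [he]; abel
      rw [hb', Preadditive.sub_comp, Category.assoc, Category.assoc]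
      exact factors_sub (factors_comp_left π hgz.2)
        (factors_mono (K.filX_anti (n + 1) (by omega : p + r ≤ p + (r + 1 : ℕ))) ha'.2)
    · exact factors_mono (K.filX_anti (n + 1) (by omega : p + r + 1 ≤ p + (r + 1 : ℕ))) ha'.2
    · rw [← Category.assoc g, ← Category.assoc π, he, Preadditive.add_comp]
      exact add_comm _ _
  · intro h
    obtain ⟨T', π, hπ, w, c, hw, -, hc, he⟩ :=
      (BSub_factors_iff K r (p + r) n (n + 1) (p + 1) rfl (by omega) _).1 h
    refine (ZSub_factors_iff K (r + 1) p n _).2 ⟨T', π, hπ, π ≫ g ≫ z - w, w, ?_, hw, by abel⟩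
    rw [Z0_factors_iff]
    refine ⟨factors_sub (factors_comp_left π hgz.1) (factors_mono (K.filX_anti n (by omega : p ≤ p + 1)) hw), ?_⟩
    rw [Preadditive.sub_comp, Category.assoc, Category.assoc, he, add_sub_cancel_left]
    exact factors_mono (K.filX_anti (n + 1) (by omega : p + (r + 1 : ℕ) ≤ p + r + 1)) hc

variable [P.IsClosedUnderIsomorphisms]

include hP hZ hPZ in
theorem image_mem (r : ℕ) (hr : ∀ p n : ℤ, P (K.E r p n)) (p n : ℤ) :
    P (SpSeq.subquot (K.BSub (r + 1) p n) (K.BSub r p n) (BSub_le_succ K r p n)) := by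
  obtain ⟨p', rfl⟩ : ∃ p', p = p' + r := ⟨p - r, by omega⟩
  obtain ⟨n', rfl⟩ : ∃ n', n = n' + 1 := ⟨n - 1, by omega⟩
  obtain ⟨e⟩ := nonempty_iso_image K r p' n'
  let h₁ := BSub_le_succ K r (p' + r) (n' + 1)
  let h₂ := BSub_le_ZSub' K (r + 1) r (p' + r) (n' + 1)
  let φ : K.E r p' n' ⟶ K.E r (p' + r) (n' + 1) :=
    towerG (BSub_le_ZSub' K r (r + 1) p' n') (ZSub_succ_le K r p' n') ≫ e.hom ≫ towerF h₁ h₂
  have hc : P (cokernel φ) :=
    of_cokernel hP Z hZ hPZ φ (cokernel.π φ) (cokernel.condition φ) (ShortComplex.exact_cokernel φ) (hr _ _) (hr _ _)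
  have hepi : Epi (towerG (BSub_le_ZSub' K r (r + 1) p' n') (ZSub_succ_le K r p' n') ≫ e.hom) :=
    @epi_comp _ _ _ _ _ _ (epi_towerG _ _) _ inferInstance
  have w : towerF h₁ h₂ ≫ cokernel.π φ = 0 := by
    refine (Preadditive.epi_iff_cancel_zero _).1 hepi _ _ ?_
    exact (Category.assoc _ _ _).symm.trans
      ((congrArg (· ≫ cokernel.π φ) (Category.assoc _ _ _)).trans (cokernel.condition φ))
  refine of_kernel hP Z hZ hPZ (towerF h₁ h₂) (cokernel.π φ) w ?_ (hr _ _) hc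
  rw [ShortComplex.exact_iff_exact_up_to_refinements]
  intro T (x : T ⟶ K.E r (p' + r) (n' + 1)) (hx : x ≫ cokernel.π φ = 0)
  obtain ⟨T', π, hπ, y, hy⟩ :=
    (ShortComplex.exact_cokernel φ).exact_up_to_refinements x hx
  refine ⟨T', π, hπ, y ≫ towerG (BSub_le_ZSub' K r (r + 1) p' n') (ZSub_succ_le K r p' n') ≫ e.hom, ?_⟩
  exact hy.trans (by simp only [φ, Category.assoc]; rfl)

include hP hZ hPZ in
theorem E_succ_mem (r : ℕ) (hr : ∀ p n : ℤ, P (K.E r p n)) (p n : ℤ) : P (K.E (r + 1) p n) := by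
  have hJ := image_mem hP Z hZ hPZ K r hr
  obtain ⟨e⟩ := nonempty_iso_image K r p n
  have hI : P (SpSeq.subquot (K.ZSub r p n) (K.ZSub (r + 1) p n) (ZSub_succ_le K r p n)) :=
    P.prop_of_iso e.symm (hJ (p + r) (n + 1))
  let h₁ := BSub_le_ZSub' K r (r + 1) p n
  have hM : P (SpSeq.subquot (K.ZSub (r + 1) p n) (K.BSub r p n) h₁) :=
    of_kernel hP Z hZ hPZ (towerF h₁ (ZSub_succ_le K r p n)) (towerG h₁ (ZSub_succ_le K r p n)) _
      (tower_exact h₁ (ZSub_succ_le K r p n)) (hr p n) hI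
  exact @of_cokernel A _ _ P hP Z hZ hPZ _ _ _
    (towerF (BSub_le_succ K r p n) (K.BSub_le_ZSub (r + 1) p n))
    (towerG (BSub_le_succ K r p n) (K.BSub_le_ZSub (r + 1) p n)) (tower_zero _ _) (epi_towerG _ _)
    (tower_exact _ _) (hJ p n) hM

include hP hZ hPZ in
theorem E_mem_of_le (r : ℕ) (hr : ∀ p n : ℤ, P (K.E r p n)) (r' : ℕ) (h : r ≤ r') :
    ∀ p n : ℤ, P (K.E r' p n) := by
  induction r', h using Nat.le_induction with
  | base => exact hr
  | succ k _ ih => exact E_succ_mem hP Z hZ hPZ K k ih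

theorem nonempty_gr_iso (p n : ℤ) :
    ∃ h : K.BBot p n ≤ K.ZTop p n,
      Nonempty (SpSeq.subquot (K.ZTop p n) (K.BBot p n) h ≅ (K.HFil n).gr p) := by
  have hkd : imageSubobject (K.obj.d (n - 1) n) ≤ kernelSubobject (K.obj.d n (n + 1)) :=
    le_kernelSubobject _ _ (imageSubobject_arrow_comp_eq_zero (K.obj.d_comp_d _ _ _))
  have h : K.BBot p n ≤ K.ZTop p n := sup_le_sup_right (inf_le_inf_left _ hkd) _
  refine ⟨h, ?_⟩
  let Zc := K.filX p n ⊓ kernelSubobject (K.obj.d n (n + 1))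
  let z := Zc.arrow
  have hzf : (K.filX p n).Factors z := Subobject.inf_arrow_factors_left _ _
  have hzd : z ≫ K.obj.d n (n + 1) = 0 :=
    (kernelSubobject_factors_iff _ _).1 (Subobject.inf_arrow_factors_right _ _)
  have h1 : (K.ZTop p n).Factors z := factors_mono le_sup_left (Subobject.factors_self _)
  let hn : (ComplexShape.up ℤ).next n = n + 1 := CochainComplex.next ℤ n
  let hp : (ComplexShape.up ℤ).prev n = n - 1 := CochainComplex.prev ℤ n
  let c : (Zc : A) ⟶ K.obj.homology n := K.obj.liftCycles z (n + 1) hn hzd ≫ K.obj.homologyπ n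
  have key : ∀ (q : ℤ) (T : A) (γ : T ⟶ K.obj.homology n),
      (K.filH q n).Factors γ ↔ ∃ (T' : A) (π : T' ⟶ T) (_ : Epi π) (w : T' ⟶ K.obj.X n)
        (hw : w ≫ K.obj.d n (n + 1) = 0), (K.filX q n).Factors w ∧
          π ≫ γ = K.obj.liftCycles w (n + 1) hn hw ≫ K.obj.homologyπ n := by
    intro q T γ
    rw [SpSeq.FilCx.filH, image_factors_iff]
    constructor
    · rintro ⟨T', π, hπ, y, hy⟩
      obtain ⟨T'', π', hπ', w, hw, hy'⟩ :=
        (K.fil q : CochainComplex A ℤ).eq_liftCycles_homologyπ_up_to_refinements y (n + 1) hn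
      refine ⟨T'', π' ≫ π, epi_comp _ _, w ≫ (K.fil q).arrow.f n,
        by rw [Category.assoc, (K.fil q).arrow.comm, ← Category.assoc, hw, zero_comp],
        (Subobject.mk_factors_iff _ _).2 ⟨w, rfl⟩, ?_⟩
      rw [Category.assoc, hy, ← Category.assoc, hy', Category.assoc, HomologicalComplex.homologyπ_naturality,
        ← Category.assoc, HomologicalComplex.liftCycles_comp_cyclesMap]
    · rintro ⟨T', π, hπ, w, hw, hwf, hy⟩
      obtain ⟨w', hw'⟩ : ∃ w' : T' ⟶ (K.fil q : CochainComplex A ℤ).X n, w' ≫ (K.fil q).arrow.f n = w :=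
        (Subobject.mk_factors_iff _ _).1 hwf
      have hwd : w' ≫ (K.fil q : CochainComplex A ℤ).d n (n + 1) = 0 := by
        have : Mono ((K.fil q).arrow.f (n + 1)) := inferInstance
        rw [← cancel_mono ((K.fil q).arrow.f (n + 1)), zero_comp, Category.assoc, ← (K.fil q).arrow.comm,
          ← Category.assoc, hw', hw]
      refine ⟨T', π, hπ, (K.fil q : CochainComplex A ℤ).liftCycles w' (n + 1) hn hwd ≫
        (K.fil q : CochainComplex A ℤ).homologyπ n, ?_⟩
      rw [hy, Category.assoc, HomologicalComplex.homologyπ_naturality, ← Category.assoc,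
        HomologicalComplex.liftCycles_comp_cyclesMap]
      congr 1
      rw [← cancel_mono (K.obj.iCycles n), HomologicalComplex.liftCycles_i, HomologicalComplex.liftCycles_i]
      exact hw'.symm
  have hlc : ∀ {T : A} (g : T ⟶ (Zc : A)), g ≫ c =
      K.obj.liftCycles (g ≫ z) (n + 1) hn (by rw [Category.assoc, hzd, comp_zero]) ≫ K.obj.homologyπ n := by
    intro T g
    rw [← Category.assoc, HomologicalComplex.comp_liftCycles]
  have hc : (K.filH p n).Factors c := by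
    refine (key p _ c).2 ⟨_, 𝟙 _, inferInstance, z, hzd, hzf, ?_⟩
    rw [Category.id_comp]
  have e1 : Epi (cls h z h1) := by
    refine epi_cls _ _ _ fun T' w hw => ?_
    obtain ⟨T'', π, hπ, a, b, ha, hb, he⟩ := (sup_factors_iff _ _ w).1 hw
    refine ⟨T'', π, hπ, Zc.factorThru a ha, ?_⟩
    rw [Subobject.factorThru_arrow, he, add_sub_cancel_left]
    exact factors_mono le_sup_right hb
  have h3 : K.filH (p + 1) n ≤ K.filH p n := K.filH_anti n (by omega)
  have e2 : Epi (cls h3 c hc) := by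
    refine epi_cls _ _ _ fun T' γ hγ => ?_
    obtain ⟨T'', π, hπ, w, hw, hwf, he⟩ := (key p _ γ).1 hγ
    have hwZ : Zc.Factors w := (Subobject.inf_factors _).2 ⟨hwf, (kernelSubobject_factors_iff _ _).2 hw⟩
    refine ⟨T'', π, hπ, Zc.factorThru w hwZ, ?_⟩
    have hw' : Zc.factorThru w hwZ ≫ z = w := Subobject.factorThru_arrow _ _ _
    rw [hlc, he]
    simp only [hw', sub_self]
    exact Subobject.factors_zero
  refine (?_ : Nonempty (_ ≅ SpSeq.subquot (K.filH p n) (K.filH (p + 1) n) h3))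
  refine @nonempty_iso_of_epi _ _ _ _ _ _ (cls h z h1) (cls h3 c hc) e1 e2 fun T g => ?_
  rw [comp_cls, comp_cls, cls_eq_zero_iff, cls_eq_zero_iff, hlc]
  constructor
  · intro hB
    obtain ⟨T', π, hπ, a, b, ha, hb, he⟩ := (sup_factors_iff _ _ _).1 hB
    obtain ⟨-, ha2⟩ := (Subobject.inf_factors _).1 ha
    have had : a ≫ K.obj.d n (n + 1) = 0 := (kernelSubobject_factors_iff _ _).1 (factors_mono hkd ha2)
    obtain ⟨T'', π', hπ', v, hv⟩ := (image_factors_iff _ _).1 ha2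
    have hbd : b ≫ K.obj.d n (n + 1) = 0 := by
      have hb' : b = π ≫ g ≫ z - a := by rw [he]; abel
      rw [hb', Preadditive.sub_comp, had, sub_zero, Category.assoc, Category.assoc, hzd, comp_zero, comp_zero]
    refine (key (p + 1) _ _).2 ⟨T'', π' ≫ π, epi_comp _ _, π' ≫ b,
      by rw [Category.assoc, hbd, comp_zero], factors_comp_left _ hb, ?_⟩
    rw [← Category.assoc, HomologicalComplex.comp_liftCycles,
      K.obj.liftCycles_comp_homologyπ_eq_iff_up_to_refinements (n - 1) n (n + 1) hp hn]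
    refine ⟨T'', 𝟙 _, inferInstance, v, ?_⟩
    rw [Category.id_comp, Category.id_comp, Category.assoc, he, Preadditive.comp_add, hv]
    abel
  · intro hB
    obtain ⟨T', π, hπ, w, hw, hwf, he⟩ := (key (p + 1) _ _).1 hB
    rw [← Category.assoc, HomologicalComplex.comp_liftCycles,
      K.obj.liftCycles_comp_homologyπ_eq_iff_up_to_refinements (n - 1) n (n + 1) hp hn] at he
    obtain ⟨T'', π', hπ', v, hv⟩ := he
    refine (sup_factors_iff _ _ _).2 ⟨T'', π' ≫ π, epi_comp _ _, v ≫ K.obj.d (n - 1) n, π' ≫ w, ?_,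
      factors_comp_left _ hwf, by rw [Category.assoc, hv, add_comm]⟩
    refine (Subobject.inf_factors _).2 ⟨?_, imageSubobject_factors_comp_self _ _⟩
    have hvd : v ≫ K.obj.d (n - 1) n = π' ≫ π ≫ g ≫ z - π' ≫ w := by rw [hv]; abel
    rw [hvd]
    exact factors_sub (factors_comp_left _ (factors_comp_left _ (factors_comp_left g hzf)))
      (factors_comp_left _ (factors_mono (K.filX_anti n (by omega : p ≤ p + 1)) hwf))

theorem subquot_congr {X : A} {Z₁ Z₂ B₁ B₂ : Subobject X} (h₁ : B₁ ≤ Z₁) (h₂ : B₂ ≤ Z₂) (hz : Z₁ = Z₂)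
    (hb : B₁ = B₂) : SpSeq.subquot Z₁ B₁ h₁ = SpSeq.subquot Z₂ B₂ h₂ := by
  subst hz; subst hb; rfl

include hP hZ hPZ in
theorem homology_mem (hK : ∀ n : ℤ, (K.XFil n).IsFinite) (r : ℕ) (hr : ∀ p n : ℤ, P (K.E r p n)) (n : ℤ) :
    P (K.obj.homology n) := by
  have hgr : ∀ p, P ((K.HFil n).gr p) := fun p => by
    obtain ⟨r₁, h₁⟩ := SpSeqFin25.ZSub_eventually K hK p n
    obtain ⟨r₂, h₂⟩ := SpSeqFin25.BSub_eventually K hK p n
    let R := max r (max r₁ r₂)
    obtain ⟨h, ⟨e⟩⟩ := nonempty_gr_iso K p n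
    refine P.prop_of_iso e ?_
    rw [← subquot_congr (K.BSub_le_ZSub R p n) h (h₁ R (by omega)) (h₂ R (by omega))]
    exact E_mem_of_le hP Z hZ hPZ K r hr R (le_max_left _ _) p n
  obtain ⟨a, ha⟩ := SpSeqFin25.exists_filH_top K hK n
  obtain ⟨b, hb⟩ := SpSeqFin25.exists_filH_bot K hK n
  have hstep : ∀ k : ℕ, P (K.filH (b - k) n : A) := by
    intro k
    induction k with
    | zero =>
      refine P.prop_of_iso (IsZero.iso hZ ?_) hPZ
      rw [Nat.cast_zero, sub_zero, hb]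
      exact IsZero.of_iso (isZero_zero A) Subobject.botCoeIsoZero
    | succ k ih =>
      have hle : K.filH (b - k) n ≤ K.filH (b - (k + 1 : ℕ)) n := K.filH_anti n (by omega)
      have hgr' : P (SpSeq.subquot (K.filH (b - (k + 1 : ℕ)) n) (K.filH (b - k) n) hle) := by
        have e := subquot_congr hle ((K.HFil n).anti (Int.le_add_one le_rfl)) rfl
          (congrArg (fun q => K.filH q n) (by omega : b - (k : ℤ) = b - (k + 1 : ℕ) + 1))
        rw [e]
        exact hgr _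
      exact of_extension hP Z hZ hPZ (Subobject.ofLE _ _ hle) (proj hle) (proj_condition hle)
        (ShortComplex.exact_cokernel _) ih hgr'
  rcases le_total a b with hab | hab
  · obtain ⟨k, hk⟩ : ∃ k : ℕ, b - k = a := ⟨(b - a).toNat, by omega⟩
    have h' := hstep k
    rw [hk] at h'
    have := (Subobject.isIso_arrow_iff_eq_top _).2 ha
    exact P.prop_of_iso (asIso (K.filH a n).arrow) h'
  · have hbt : (⊥ : Subobject (K.obj.homology n)) = ⊤ :=
      le_antisymm bot_le (ha.ge.trans ((K.filH_anti n hab).trans hb.le))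
    have := (Subobject.isIso_arrow_iff_eq_top _).2 hbt
    refine P.prop_of_iso (IsZero.iso hZ ?_) hPZ
    exact IsZero.of_iso (isZero_zero A) ((asIso (⊥ : Subobject (K.obj.homology n)).arrow).symm ≪≫ Subobject.botCoeIsoZero)

end GrothLib.SpSeqPage25
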