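import Groth.Agent.SpSeqPage25.Basic

/-! # Convergence when the cohomology of the steps stabilises -/

set_option autoImplicit false

universe v u

open CategoryTheory CategoryTheory.Limits

namespace GrothLib.SpSeqPage25

open SubQuot25

variable {A : Type u} [Category.{v} A] [Abelian A] (K : SpSeq.FilCx A)

theorem exists_lift_cycle (q n : ℤ) {T : A} (x : T ⟶ K.obj.X n) (hx : x ≫ K.obj.d n (n + 1) = 0)
    (hxq : (K.filX q n).Factors x) :
    ∃ x' : T ⟶ (K.fil q : CochainComplex A ℤ).X n,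
      x' ≫ (K.fil q : CochainComplex A ℤ).d n (n + 1) = 0 ∧ x' ≫ (K.fil q).arrow.f n = x := by
  obtain ⟨x', hx'⟩ : ∃ x' : T ⟶ (K.fil q : CochainComplex A ℤ).X n, x' ≫ (K.fil q).arrow.f n = x :=
    (Subobject.mk_factors_iff _ _).1 hxq
  refine ⟨x', ?_, hx'⟩
  rw [← cancel_mono ((K.fil q).arrow.f (n + 1)), zero_comp, Category.assoc, ← (K.fil q).arrow.comm,
    ← Category.assoc, hx', hx]

theorem exists_bound (q n : ℤ) (hm : Mono (HomologicalComplex.homologyMap (K.fil q).arrow n)) {T : A}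
    (x : T ⟶ K.obj.X n) (hx : x ≫ K.obj.d n (n + 1) = 0) (hxq : (K.filX q n).Factors x)
    (hb : ∃ (T' : A) (π : T' ⟶ T) (_ : Epi π) (w : T' ⟶ K.obj.X (n - 1)), π ≫ x = w ≫ K.obj.d (n - 1) n) :
    ∃ (T' : A) (π : T' ⟶ T) (_ : Epi π) (w : T' ⟶ K.obj.X (n - 1)),
      (K.filX q (n - 1)).Factors w ∧ π ≫ x = w ≫ K.obj.d (n - 1) n := by
  obtain ⟨x', hx', rfl⟩ := exists_lift_cycle K q n x hx hxq
  obtain ⟨T₁, π₁, hπ₁, w₁, hw₁⟩ := hb
  have hd : (π₁ ≫ x') ≫ (K.fil q : CochainComplex A ℤ).d n (n + 1) = 0 := by rw [Category.assoc, hx', comp_zero]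
  obtain ⟨T₂, π₂, hπ₂, w₂, hw₂⟩ :=
    (HomologicalComplex.mono_homologyMap_iff_up_to_refinements (K.fil q).arrow (n - 1) n (n + 1)
      (CochainComplex.prev ℤ n) (CochainComplex.next ℤ n)).1 hm (π₁ ≫ x') hd w₁ (by rw [Category.assoc, hw₁])
  refine ⟨T₂, π₂ ≫ π₁, epi_comp _ _, w₂ ≫ (K.fil q).arrow.f (n - 1),
    (Subobject.mk_factors_iff _ _).2 ⟨w₂, rfl⟩, ?_⟩
  rw [Category.assoc w₂, (K.fil q).arrow.comm, ← Category.assoc w₂, ← hw₂]
  simp only [Category.assoc]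

theorem exists_bound_of_isZero (q n : ℤ) (hz : IsZero ((K.fil q : CochainComplex A ℤ).homology n)) {T : A}
    (x : T ⟶ K.obj.X n) (hx : x ≫ K.obj.d n (n + 1) = 0) (hxq : (K.filX q n).Factors x) :
    ∃ (T' : A) (π : T' ⟶ T) (_ : Epi π) (w : T' ⟶ K.obj.X (n - 1)),
      (K.filX q (n - 1)).Factors w ∧ π ≫ x = w ≫ K.obj.d (n - 1) n := by
  obtain ⟨x', hx', rfl⟩ := exists_lift_cycle K q n x hx hxq
  obtain ⟨T', π, hπ, w, hw⟩ :=
    ((K.fil q : CochainComplex A ℤ).liftCycles_comp_homologyπ_eq_zero_iff_up_to_refinements (n - 1) n (n + 1)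
      (CochainComplex.prev ℤ n) (CochainComplex.next ℤ n) x' hx').1 (hz.eq_of_tgt _ _)
  refine ⟨T', π, hπ, w ≫ (K.fil q).arrow.f (n - 1), (Subobject.mk_factors_iff _ _).2 ⟨w, rfl⟩, ?_⟩
  rw [Category.assoc w, (K.fil q).arrow.comm, ← Category.assoc w, ← hw, Category.assoc]

variable (h0 : ∀ n : ℤ, ∃ p₀ : ℤ, ∀ p : ℤ, p₀ ≤ p → IsZero ((K.fil p : CochainComplex A ℤ).homology n))
  (h1 : ∀ n : ℤ, ∃ p₁ : ℤ, ∀ p : ℤ, p ≤ p₁ → IsIso (HomologicalComplex.homologyMap (K.fil p).arrow n))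

include h1 in
theorem hom_filH_top (n : ℤ) : ∃ a, K.filH a n = ⊤ := by
  obtain ⟨a, ha⟩ := h1 n
  refine ⟨a, ?_⟩
  have := ha a le_rfl
  have : Epi (K.filH a n).arrow :=
    epi_of_epi_fac (imageSubobject_arrow_comp (HomologicalComplex.homologyMap (K.fil a).arrow n))
  have : IsIso (K.filH a n).arrow := isIso_of_mono_of_epi _
  exact Subobject.eq_top_of_isIso_arrow _

include h0 in
theorem hom_filH_bot (n : ℤ) : ∃ b, K.filH b n = ⊥ := by
  obtain ⟨b, hb⟩ := h0 n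
  refine ⟨b, le_bot_iff.1 (imageSubobject_le _ (0 : _ ⟶ ((⊥ : Subobject (K.obj.homology n)) : A)) ?_)⟩
  rw [zero_comp]
  exact ((hb b le_rfl).eq_of_src _ _)

include h0 in
theorem hom_ZSub_eventually (p n : ℤ) : ∃ r₀ : ℕ, ∀ r, r₀ ≤ r → K.ZSub r p n = K.ZTop p n := by
  obtain ⟨b, hb⟩ := h0 (n + 1)
  refine ⟨max 1 (b - p).toNat, fun r hr => le_antisymm (sup_le (Subobject.le_of_factors ?_) le_sup_right)
    (SpSeqFin25.ZTop_le K r p n)⟩
  set S := Z0 K r p n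
  change (K.ZTop p n).Factors S.arrow
  obtain ⟨hf, hd⟩ := (Z0_factors_iff K r p n S.arrow).1 (Subobject.factors_self _)
  obtain ⟨T', π, hπ, w, hw, he⟩ := exists_bound_of_isZero K (p + r) (n + 1) (hb _ (by omega))
    (S.arrow ≫ K.obj.d n (n + 1)) (by rw [Category.assoc, K.obj.d_comp_d, comp_zero]) hd
  obtain ⟨w', hw', he'⟩ : ∃ w' : T' ⟶ K.obj.X n, (K.filX (p + r) n).Factors w' ∧
      π ≫ S.arrow ≫ K.obj.d n (n + 1) = w' ≫ K.obj.d n (n + 1) := by
    revert w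
    rw [show n + 1 - 1 = n by omega]
    exact fun w hw he => ⟨w, hw, he⟩
  have hw1 : (K.filX (p + 1) n).Factors w' := factors_mono (K.filX_anti n (by omega : p + 1 ≤ p + r)) hw'
  refine (sup_factors_iff _ _ _).2 ⟨T', π, hπ, π ≫ S.arrow - w', w', ?_, hw1, by abel⟩
  refine (Subobject.inf_factors _).2 ⟨factors_sub (factors_comp_left _ hf)
    (factors_mono (K.filX_anti n (by omega : p ≤ p + r)) hw'), (kernelSubobject_factors_iff _ _).2 ?_⟩
  rw [Preadditive.sub_comp, Category.assoc, he', sub_self]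

include h1 in
theorem hom_BSub_eventually (p n : ℤ) : ∃ r₀ : ℕ, ∀ r, r₀ ≤ r → K.BSub r p n = K.BBot p n := by
  obtain ⟨a, ha⟩ := h1 n
  refine ⟨(p + 1 - a).toNat + 1, fun r hr => le_antisymm (SpSeqFin25.le_BBot K r p n)
    (sup_le (Subobject.le_of_factors ?_) le_sup_right)⟩
  set S := K.filX p n ⊓ imageSubobject (K.obj.d (n - 1) n)
  change (K.BSub r p n).Factors S.arrow
  obtain ⟨T₁, π₁, hπ₁, v, hv⟩ := (image_factors_iff _ _).1 (Subobject.inf_arrow_factors_right (K.filX p n) _ :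
    (imageSubobject (K.obj.d (n - 1) n)).Factors S.arrow)
  have hf : (K.filX p n).Factors S.arrow := Subobject.inf_arrow_factors_left _ _
  have hd : S.arrow ≫ K.obj.d n (n + 1) = 0 := by
    rw [← cancel_epi π₁, comp_zero, ← Category.assoc, hv, Category.assoc, K.obj.d_comp_d, comp_zero]
  have := ha (p - r + 1) (by omega)
  obtain ⟨T', π, hπ, w, hw, he⟩ := exists_bound K (p - r + 1) n inferInstance S.arrow hd
    (factors_mono (K.filX_anti n (by omega : p - r + 1 ≤ p)) hf) ⟨T₁, π₁, hπ₁, v, hv⟩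
  refine (BSub_factors_iff K r p (n - 1) n (p - r + 1) (by omega) rfl _).2
    ⟨T', π, hπ, w, 0, hw, ?_, Subobject.factors_zero, by rw [add_zero]; exact he⟩
  rw [← he]
  exact factors_comp_left _ hf

theorem isZero_E_one_of_ZSub_le (p n : ℤ) (h : K.ZSub 1 p n ≤ K.BSub 1 p n) : IsZero (K.E 1 p n) :=
  SpSeqFin25.isZero_subquot_of_eq _ (le_antisymm (K.BSub_le_ZSub 1 p n) h)

include h0 h1 in
theorem isBounded_one : K.IsBounded 1 := fun n => by
  obtain ⟨b, hb⟩ := h0 n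
  obtain ⟨b', hb'⟩ := h0 (n + 1)
  obtain ⟨a, ha⟩ := h1 n
  obtain ⟨a', ha'⟩ := h1 (n + 1)
  refine ((Finset.Ico (min a a') (max b b')).finite_toSet).subset fun p hp => ?_
  by_contra hc
  refine hp (isZero_E_one_of_ZSub_le K p n (sup_le (Subobject.le_of_factors ?_) le_sup_right))
  set S := Z0 K 1 p n
  change (K.BSub 1 p n).Factors S.arrow
  obtain ⟨hf, hd⟩ := (Z0_factors_iff K 1 p n S.arrow).1 (Subobject.factors_self _)
  have hd0 : (S.arrow ≫ K.obj.d n (n + 1)) ≫ K.obj.d (n + 1) (n + 1 + 1) = 0 := by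
    rw [Category.assoc, K.obj.d_comp_d, comp_zero]
  obtain ⟨T', π, hπ, y, hy, he⟩ : ∃ (T' : A) (π : T' ⟶ S) (_ : Epi π) (y : T' ⟶ K.obj.X n),
      (K.filX (p + 1) n).Factors y ∧ π ≫ S.arrow ≫ K.obj.d n (n + 1) = y ≫ K.obj.d n (n + 1) := by
    have hsrc : ∃ (T' : A) (π : T' ⟶ S) (_ : Epi π) (y : T' ⟶ K.obj.X (n + 1 - 1)),
        (K.filX (p + (1 : ℕ)) (n + 1 - 1)).Factors y ∧
          π ≫ S.arrow ≫ K.obj.d n (n + 1) = y ≫ K.obj.d (n + 1 - 1) (n + 1) := by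
      rcases le_or_gt (max b b') p with hp' | hp'
      · exact exists_bound_of_isZero K _ (n + 1) (hb' _ (by omega)) _ hd0 hd
      · have hlt : p < min a a' := by
          by_contra h'
          exact hc (Finset.mem_coe.2 (Finset.mem_Ico.2 ⟨by omega, hp'⟩))
        have := ha' (p + (1 : ℕ)) (by omega)
        exact exists_bound K _ (n + 1) inferInstance _ hd0 hd
          ⟨_, 𝟙 _, inferInstance, S.arrow ≫ (K.obj.XIsoOfEq (by omega : n = n + 1 - 1)).hom,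
            by rw [Category.id_comp, Category.assoc, HomologicalComplex.XIsoOfEq_hom_comp_d]⟩
    revert hsrc
    rw [show n + 1 - 1 = n by omega]
    exact id
  let x := π ≫ S.arrow - y
  have hxf : (K.filX p n).Factors x :=
    factors_sub (factors_comp_left _ hf) (factors_mono (K.filX_anti n (by omega : p ≤ p + 1)) hy)
  have hxd : x ≫ K.obj.d n (n + 1) = 0 := by rw [Preadditive.sub_comp, Category.assoc, he, sub_self]
  obtain ⟨T'', π', hπ', z, w, hz, hw, he'⟩ : ∃ (T'' : A) (π' : T'' ⟶ T') (_ : Epi π')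
      (z : T'' ⟶ K.obj.X n) (w : T'' ⟶ K.obj.X (n - 1)),
      (K.filX (p + 1) n).Factors z ∧ (K.filX p (n - 1)).Factors w ∧ π' ≫ x = z + w ≫ K.obj.d (n - 1) n := by
    rcases le_or_gt (max b b') p with hp' | hp'
    · obtain ⟨T'', π', hπ', w, hw, he'⟩ := exists_bound_of_isZero K p n (hb _ (by omega)) x hxd hxf
      exact ⟨T'', π', hπ', 0, w, Subobject.factors_zero, hw, by rw [zero_add, he']⟩
    · have hlt : p < min a a' := by
        by_contra h'
        exact hc (Finset.mem_coe.2 (Finset.mem_Ico.2 ⟨by omega, hp'⟩))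
      have := ha (p + 1) (by omega)
      have := ha p (by omega)
      obtain ⟨T₁, π₁, hπ₁, z, hzd, w₁, he₁⟩ :=
        (HomologicalComplex.epi_homologyMap_iff_up_to_refinements (K.fil (p + 1)).arrow (n - 1) n (n + 1)
          (CochainComplex.prev ℤ n) (CochainComplex.next ℤ n)).1 inferInstance x hxd
      let z' := z ≫ (K.fil (p + 1)).arrow.f n
      have hz' : (K.filX (p + 1) n).Factors z' := (Subobject.mk_factors_iff _ _).2 ⟨z, rfl⟩
      obtain ⟨T₂, π₂, hπ₂, w, hw, he₂⟩ := exists_bound K p n inferInstance (π₁ ≫ x - z')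
        (by rw [Preadditive.sub_comp, Category.assoc, hxd, comp_zero, zero_sub, Category.assoc,
          (K.fil (p + 1)).arrow.comm, ← Category.assoc, hzd, zero_comp, neg_zero])
        (factors_sub (factors_comp_left _ hxf) (factors_mono (K.filX_anti n (by omega : p ≤ p + 1)) hz'))
        ⟨_, 𝟙 _, inferInstance, w₁, by rw [Category.id_comp, he₁]; abel⟩
      refine ⟨T₂, π₂ ≫ π₁, epi_comp _ _, π₂ ≫ z', w, factors_comp_left _ hz', hw, ?_⟩
      rw [Category.assoc, ← he₂, Preadditive.comp_sub π₂, add_sub_cancel]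
  refine (BSub_factors_iff K 1 p (n - 1) n p (by omega) (by omega) _).2
    ⟨T'', π' ≫ π, epi_comp _ _, w, z + π' ≫ y, hw, ?_,
      Subobject.factors_add _ _ hz (factors_comp_left _ hy), ?_⟩
  · have hwd : w ≫ K.obj.d (n - 1) n = π' ≫ x - z := by rw [he']; abel
    rw [hwd]
    exact factors_sub (factors_comp_left _ hxf) (factors_mono (K.filX_anti n (by omega : p ≤ p + 1)) hz)
  · have : π' ≫ π ≫ S.arrow = π' ≫ x + π' ≫ y := by rw [← Preadditive.comp_add, sub_add_cancel]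
    rw [Category.assoc, this, he']
    abel

include h0 h1 in
theorem converges_of_homology : K.IsBounded 1 ∧ (∀ n : ℤ, (K.HFil n).IsFinite) ∧ K.Converges := by
  refine ⟨isBounded_one K h0 h1, fun n => ⟨hom_filH_top K h1 n, hom_filH_bot K h0 n⟩,
    fun p n => ?_, ⟨fun p n => ?_, fun n => ⟨?_, ?_⟩⟩, fun n => ?_⟩
  · obtain ⟨r₀, h⟩ := hom_ZSub_eventually K h0 p n
    exact ⟨r₀, fun r hr => (h r hr).trans (h r₀ le_rfl).symm⟩
  · obtain ⟨r₁, e₁⟩ := hom_ZSub_eventually K h0 p n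
    obtain ⟨r₂, e₂⟩ := hom_BSub_eventually K h1 p n
    exact ⟨IsLeast.isGLB ⟨⟨r₁, e₁ r₁ le_rfl⟩, by rintro _ ⟨r, rfl⟩; exact SpSeqFin25.ZTop_le K r p n⟩,
      IsGreatest.isLUB ⟨⟨r₂, e₂ r₂ le_rfl⟩, by rintro _ ⟨r, rfl⟩; exact SpSeqFin25.le_BBot K r p n⟩⟩
  · obtain ⟨b, hb⟩ := hom_filH_bot K h0 n
    exact IsLeast.isGLB ⟨⟨b, hb⟩, fun _ _ => bot_le⟩
  · obtain ⟨a, ha⟩ := hom_filH_top K h1 n
    exact IsGreatest.isLUB ⟨⟨a, ha⟩, fun _ _ => le_top⟩
  · exact SpSeqFin25.isComplete_of_isDiscrete _ (hom_filH_bot K h0 n)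

end GrothLib.SpSeqPage25
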